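import Cfsg.Agent.H132.IFG.Final1
import Cfsg.Agent.H244.IFG.Main
import Cfsg.Agent.H747.IFG.StepC
import Cfsg.Agent.H751.IF.G2Even

/-!
# S5719, cell `g2`, all `q`
-/

set_option autoImplicit false

namespace Cfsg.Agent.H625.IFx

open Cfsg Cfsg.Lie Cfsg.Agent.H209.Fxy

/-- the field `g2` of `CellsExc` -/
theorem g2 (F : Type) [Field F] [Fintype F] (h3 : 3 ≤ Fintype.card F) (hs : IsSimpleGroup (chevG2.group F)) :
    KillE (chevG2.group F) := by
  rcases Nat.even_or_odd (Fintype.card F) with he | ho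
  · exact H751.G2Even.g2_even F he h3 hs
  · rcases Nat.lt_or_ge (Fintype.card F) 5 with h5 | h5
    · have : Fintype.card F = 3 := by
        obtain ⟨k, hk⟩ := ho
        omega
      exact H244.IFG.killE_g2_three F this hs
    · exact H132.IFG.killE_g2_of_stepC F h5 ho hs fun h2 A hz hs hK hB =>
        H747.IFG.stepC _ h2 h5 A hz hs hK hB

end Cfsg.Agent.H625.IFx
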