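import Cfsg.Agent.H751.IF.TD4Even
import Cfsg.Agent.H753.IF.TD4Odd

/-!
# S5719: the cell `td4` (`³D₄(q)`, all `q`)
-/

set_option autoImplicit false

namespace Cfsg.Agent.H625.IFx

open Cfsg Cfsg.Lie Cfsg.Agent.H209.Fxy

theorem td4 (K : Type) [Field K] [Fintype K] (q : ℕ) (hq : IsPrimePow q) (hK : Fintype.card K = q ^ 3)
    (hs : IsSimpleGroup (twistedD4 K q)) : KillE (twistedD4 K q) := by
  rcases Nat.even_or_odd q with he | ho
  · exact Cfsg.Agent.H751.TD4Even.td4_even K q hq hK he hs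
  · exact Cfsg.Agent.H753.IFx.td4_odd K q hq ho hK hs

end Cfsg.Agent.H625.IFx
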