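import Cfsg.Agent.Lib.SL2Mat
import Mathlib.Data.Fintype.Option

/-!
# S5719: the centraliser in `SL₂(K)` of an involution of `PGL₂(K)` (helper625)
-/

set_option autoImplicit false
set_option linter.unusedSectionVars false

namespace Cfsg.Agent.H625.Gl2

open Cfsg.Agent.Lib.SL2Mat

variable {K : Type*} [Field K]

/-- the conic -/
def Con (D : K) : Type _ := {p : K × K // p.1 ^ 2 + D * p.2 ^ 2 = 1}

theorem card_con [Finite K] (h2 : (2 : K) ≠ 0) {D : K} (hD : D ≠ 0) :
    Nat.card (Con D) + Nat.card {t : K // 1 + D * t ^ 2 = 0} = Nat.card K + 1 := by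
  classical
  have := Fintype.ofFinite K
  let f : Option {t : K // ¬ 1 + D * t ^ 2 = 0} → Con D := fun o => match o with
    | none => ⟨(-1, 0), by simp⟩
    | some t => ⟨((1 - D * t.1 ^ 2) / (1 + D * t.1 ^ 2), 2 * t.1 / (1 + D * t.1 ^ 2)), by
        have h := t.2
        field_simp
        ring⟩
  have hf : Function.Bijective f := by
    constructor
    · intro s t h
      rcases s with _ | s <;> rcases t with _ | t
      · rfl
      · exfalso
        have h1 := congrArg (fun p => p.1.1) h
        have h3 := t.2
        change (-1 : K) = (1 - D * t.1 ^ 2) / (1 + D * t.1 ^ 2) at h1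
        rw [eq_div_iff h3] at h1
        apply h2
        linear_combination -h1
      · exfalso
        have h1 := congrArg (fun p => p.1.1) h
        have h3 := s.2
        change (1 - D * s.1 ^ 2) / (1 + D * s.1 ^ 2) = (-1 : K) at h1
        rw [div_eq_iff h3] at h1
        apply h2
        linear_combination h1
      · have h1 := congrArg (fun p => p.1.1) h
        have h4 := congrArg (fun p => p.1.2) h
        have h3 := s.2
        have h5 := t.2
        change (1 - D * s.1 ^ 2) / (1 + D * s.1 ^ 2) = (1 - D * t.1 ^ 2) / (1 + D * t.1 ^ 2) at h1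
        change 2 * s.1 / (1 + D * s.1 ^ 2) = 2 * t.1 / (1 + D * t.1 ^ 2) at h4
        rw [div_eq_div_iff h3 h5] at h1 h4
        have e1 : D * s.1 ^ 2 = D * t.1 ^ 2 := by
          have : (2 : K) * (D * t.1 ^ 2 - D * s.1 ^ 2) = 0 := by linear_combination h1
          rcases mul_eq_zero.1 this with h | h
          · exact absurd h h2
          · linear_combination -h
        have e2 : (2 : K) * (1 + D * t.1 ^ 2) * (s.1 - t.1) = 0 := by
          rw [e1] at h4
          linear_combination h4
        rcases mul_eq_zero.1 e2 with h | h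
        · exact absurd h (mul_ne_zero h2 h5)
        · congr 1
          apply Subtype.ext
          linear_combination h
    · rintro ⟨⟨u, v⟩, h⟩
      change u ^ 2 + D * v ^ 2 = 1 at h
      by_cases hu : u = -1
      · subst hu
        have hv : D * v ^ 2 = 0 := by linear_combination h
        have : v = 0 := by
          rcases mul_eq_zero.1 hv with h | h
          · exact absurd h hD
          · exact pow_eq_zero_iff (two_ne_zero) |>.1 h
        subst this
        exact ⟨none, rfl⟩
      · have h1 : u + 1 ≠ 0 := fun h => hu (eq_neg_of_add_eq_zero_left h)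
        have hden : 1 + D * (v / (u + 1)) ^ 2 = 2 / (u + 1) := by
          field_simp
          linear_combination h
        refine ⟨some ⟨v / (u + 1), ?_⟩, ?_⟩
        · rw [hden]
          exact div_ne_zero h2 h1
        · apply Subtype.ext
          apply Prod.ext
          · change (1 - D * (v / (u + 1)) ^ 2) / (1 + D * (v / (u + 1)) ^ 2) = u
            rw [div_eq_iff (by rw [hden]; exact div_ne_zero h2 h1), hden]
            field_simp
            linear_combination -h
          · change 2 * (v / (u + 1)) / (1 + D * (v / (u + 1)) ^ 2) = v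
            rw [hden]
            field_simp
  have e1 := Nat.card_congr (Equiv.ofBijective f hf)
  have e2 : Nat.card (Option {t : K // ¬ 1 + D * t ^ 2 = 0}) = Nat.card {t : K // ¬ 1 + D * t ^ 2 = 0} + 1 := by
    rw [Nat.card_eq_fintype_card, Nat.card_eq_fintype_card, Fintype.card_option]
  have e3 : Nat.card {t : K // 1 + D * t ^ 2 = 0} + Nat.card {t : K // ¬ 1 + D * t ^ 2 = 0} = Nat.card K := by
    rw [← Nat.card_sum]
    exact Nat.card_congr (Equiv.sumCompl _)
  omega

theorem card_con_sq [Finite K] (h2 : (2 : K) ≠ 0) {D : K} (hD : D ≠ 0) (h : IsSquare (-D)) :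
    Nat.card (Con D) + 1 = Nat.card K := by
  obtain ⟨e, he⟩ := h
  have he0 : e ≠ 0 := by
    rintro rfl
    apply hD
    linear_combination -he
  have h1 : Nat.card {t : K // 1 + D * t ^ 2 = 0} = 2 := by
    have hs : {t : K | 1 + D * t ^ 2 = 0} = {e⁻¹, -e⁻¹} := by
      ext t
      rw [Set.mem_setOf_eq, Set.mem_insert_iff, Set.mem_singleton_iff]
      constructor
      · intro ht
        have h3 : (e * t - 1) * (e * t + 1) = 0 := by linear_combination (-t ^ 2) * he - ht
        rcases mul_eq_zero.1 h3 with h | h
        · left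
          exact eq_inv_of_mul_eq_one_right (by linear_combination h)
        · right
          have : e * t = -1 := by linear_combination h
          field_simp
          linear_combination this
      · rintro (rfl | rfl)
        · field_simp
          linear_combination -he
        · rw [neg_sq]
          field_simp
          linear_combination -he
    have h3 : Nat.card {t : K // 1 + D * t ^ 2 = 0} = Set.ncard {t : K | 1 + D * t ^ 2 = 0} := rfl
    rw [h3, hs, Set.ncard_pair]
    intro h
    have : (2 : K) * e⁻¹ = 0 := by linear_combination h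
    rcases mul_eq_zero.1 this with h | h
    · exact h2 h
    · exact inv_ne_zero he0 h
  have := card_con h2 hD
  omega

theorem card_con_nsq [Finite K] (h2 : (2 : K) ≠ 0) {D : K} (hD : D ≠ 0) (h : ¬ IsSquare (-D)) :
    Nat.card (Con D) = Nat.card K + 1 := by
  have h1 : IsEmpty {t : K // 1 + D * t ^ 2 = 0} := by
    refine ⟨fun t => h ?_⟩
    have h0 := t.2
    have ht : t.1 ≠ 0 := by
      intro h3
      rw [h3] at h0
      norm_num at h0
    refine ⟨t.1⁻¹, ?_⟩
    field_simp
    linear_combination -h0
  have := card_con h2 hD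
  have h0 : Nat.card {t : K // 1 + D * t ^ 2 = 0} = 0 := Nat.card_of_isEmpty
  omega

set_option maxHeartbeats 2000000 in
/-- **The fixed points on `SL₂` of an involution of `PGL₂`.** -/
theorem card_fix [Finite K] (h2 : (2 : K) ≠ 0) (g : GL (Fin 2) K) (h1 : conjGL g ≠ 1) (hh : conjGL g * conjGL g = 1) :
    (IsSquare (-g.1.det) → Nat.card {x : Matrix.SpecialLinearGroup (Fin 2) K // conjGL g x = x} + 1 = Nat.card K) ∧
    (¬ IsSquare (-g.1.det) → Nat.card {x : Matrix.SpecialLinearGroup (Fin 2) K // conjGL g x = x} = Nat.card K + 1) := by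
  have hc : ∀ (g : GL (Fin 2) K) (x : Matrix.SpecialLinearGroup (Fin 2) K), conjGL g x = x ↔ g.1 * x.1 = x.1 * g.1 := by
    intro g x
    constructor
    · intro h
      have h3 := congrArg Subtype.val h
      rw [conjGL_val] at h3
      calc g.1 * x.1 = (g.1 * x.1 * g⁻¹.1) * g.1 := by
            rw [Matrix.mul_assoc (g.1 * x.1), ← Units.val_mul, inv_mul_cancel, Units.val_one, Matrix.mul_one]
        _ = x.1 * g.1 := by rw [h3]
    · intro h
      apply Subtype.ext
      rw [conjGL_val, h, Matrix.mul_assoc, ← Units.val_mul, mul_inv_cancel, Units.val_one, Matrix.mul_one]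
  obtain ⟨a, ha⟩ : ∃ a, a = g.1 0 0 := ⟨_, rfl⟩
  obtain ⟨b, hb⟩ : ∃ b, b = g.1 0 1 := ⟨_, rfl⟩
  obtain ⟨c, hcc⟩ : ∃ c, c = g.1 1 0 := ⟨_, rfl⟩
  obtain ⟨d, hd⟩ : ∃ d, d = g.1 1 1 := ⟨_, rfl⟩
  have hg : g.1 = !![a, b; c, d] := by
    rw [ha, hb, hcc, hd]
    exact Matrix.eta_fin_two _
  have hdet : g.1.det = a * d - b * c := by rw [hg, Matrix.det_fin_two_of]
  have hdet0 : g.1.det ≠ 0 := by
    have := (Matrix.isUnit_iff_isUnit_det _).1 g.isUnit
    exact this.ne_zero
  -- the trace vanishes
  have hcomm : ∀ x : Matrix.SpecialLinearGroup (Fin 2) K, (g * g).1 * x.1 = x.1 * (g * g).1 := fun x =>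
    (hc (g * g) x).1 (by rw [map_mul, hh]; rfl)
  have hgg : (g * g).1 = !![a * a + b * c, a * b + b * d; c * a + d * c, c * b + d * d] := by
    rw [Units.val_mul, hg]
    ext i j
    fin_cases i <;> fin_cases j <;> simp [Matrix.mul_apply, Fin.sum_univ_two]
  have hu : (g * g).1 * !![1, 1; 0, 1] = !![1, 1; 0, 1] * (g * g).1 := hcomm (up 1)
  have hl : (g * g).1 * !![1, 0; 1, 1] = !![1, 0; 1, 1] * (g * g).1 := hcomm (lo 1)
  have e1 : c * (a + d) = 0 := by
    have h := congrFun (congrFun hu 0) 0
    rw [hgg] at h
    simp [Matrix.mul_apply, Fin.sum_univ_two] at h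
    linear_combination h
  have e2 : b * (a + d) = 0 := by
    have h := congrFun (congrFun hl 0) 0
    rw [hgg] at h
    simp [Matrix.mul_apply, Fin.sum_univ_two] at h
    linear_combination h
  have e3 : (a - d) * (a + d) = 0 := by
    have h := congrFun (congrFun hu 0) 1
    rw [hgg] at h
    simp [Matrix.mul_apply, Fin.sum_univ_two] at h
    linear_combination h
  have htr : a + d = 0 := by
    by_contra hne
    apply h1
    have f1 : c = 0 := (mul_eq_zero.1 e1).resolve_right hne
    have f2 : b = 0 := (mul_eq_zero.1 e2).resolve_right hne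
    have f3 : a = d := by
      have := (mul_eq_zero.1 e3).resolve_right hne
      linear_combination this
    ext1 x
    refine (hc g x).2 ?_
    rw [hg, f1, f2, ← f3]
    ext i j
    fin_cases i <;> fin_cases j <;> simp [Matrix.mul_apply, Fin.sum_univ_two, mul_comm]
  have hda : d = -a := by linear_combination htr
  subst hda
  have hne : ¬ (a = 0 ∧ b = 0 ∧ c = 0) := by
    rintro ⟨rfl, rfl, rfl⟩
    apply hdet0
    rw [hdet]
    ring
  obtain ⟨D, hD⟩ : ∃ D, D = g.1.det := ⟨_, rfl⟩
  rw [← hD] at hdet hdet0 ⊢
  have hbij : ∃ f : Con D → {x : Matrix.SpecialLinearGroup (Fin 2) K // conjGL g x = x}, Function.Bijective f := by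
    refine ⟨fun p => ⟨mk (p.1.1 + p.1.2 * a) (p.1.2 * b) (p.1.2 * c) (p.1.1 - p.1.2 * a) ?_, ?_⟩, ?_, ?_⟩
    · have h := p.2
      linear_combination h - p.1.2 ^ 2 * hdet
    · rw [hc, hg]
      ext i j
      fin_cases i <;> fin_cases j <;> simp [Matrix.mul_apply, Fin.sum_univ_two, mk] <;> ring
    · rintro ⟨⟨u, v⟩, h⟩ ⟨⟨u', v'⟩, h'⟩ he
      have he' := congrArg Subtype.val he
      have k0 := congrArg (fun x => ent x 0 0) he'
      have k1 := congrArg (fun x => ent x 0 1) he'
      have k2 := congrArg (fun x => ent x 1 0) he'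
      have k3 := congrArg (fun x => ent x 1 1) he'
      change u + v * a = u' + v' * a at k0
      change v * b = v' * b at k1
      change v * c = v' * c at k2
      change u - v * a = u' - v' * a at k3
      have huu : u = u' := by
        have : (2 : K) * (u - u') = 0 := by linear_combination k0 + k3
        rcases mul_eq_zero.1 this with h | h
        · exact absurd h h2
        · linear_combination h
      have hvv : v = v' := by
        by_contra hv
        have hv' : v - v' ≠ 0 := sub_ne_zero.2 hv
        apply hne
        refine ⟨?_, ?_, ?_⟩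
        · have : (v - v') * a = 0 := by linear_combination k0 - huu
          exact (mul_eq_zero.1 this).resolve_left hv'
        · have : (v - v') * b = 0 := by linear_combination k1
          exact (mul_eq_zero.1 this).resolve_left hv'
        · have : (v - v') * c = 0 := by linear_combination k2
          exact (mul_eq_zero.1 this).resolve_left hv'
      subst huu hvv
      rfl
    · rintro ⟨x, hx⟩
      have hx' := (hc g x).1 hx
      rw [hg] at hx'
      have q0 := congrFun (congrFun hx' 0) 0
      have q1 := congrFun (congrFun hx' 0) 1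
      have q2 := congrFun (congrFun hx' 1) 0
      simp [Matrix.mul_apply, Fin.sum_univ_two] at q0 q1 q2
      change a * ent x 0 0 + b * ent x 1 0 = ent x 0 0 * a + ent x 0 1 * c at q0
      change a * ent x 0 1 + b * ent x 1 1 = ent x 0 0 * b + -(ent x 0 1 * a) at q1
      change c * ent x 0 0 + -(a * ent x 1 0) = ent x 1 0 * a + ent x 1 1 * c at q2
      have hdx := det_eq x
      obtain ⟨v, hv1, hv2, hv3⟩ : ∃ v, v * b = ent x 0 1 ∧ v * c = ent x 1 0 ∧ 2 * (v * a) = ent x 0 0 - ent x 1 1 := by
        by_cases hb0 : b = 0
        · by_cases hc0 : c = 0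
          · have ha0 : a ≠ 0 := fun h => hne ⟨h, hb0, hc0⟩
            refine ⟨(ent x 0 0 - ent x 1 1) / (2 * a), ?_, ?_, ?_⟩
            · rw [hb0, mul_zero]
              have : (2 : K) * a * ent x 0 1 = 0 := by rw [hb0] at q1; linear_combination q1
              rcases mul_eq_zero.1 this with h | h
              · exact absurd h (mul_ne_zero h2 ha0)
              · exact h.symm
            · rw [hc0, mul_zero]
              have : (2 : K) * a * ent x 1 0 = 0 := by rw [hc0] at q2; linear_combination -q2
              rcases mul_eq_zero.1 this with h | h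
              · exact absurd h (mul_ne_zero h2 ha0)
              · exact h.symm
            · field_simp
          · refine ⟨ent x 1 0 / c, ?_, ?_, ?_⟩
            · rw [hb0, mul_zero]
              have : ent x 0 1 * c = 0 := by rw [hb0] at q0; linear_combination -q0
              exact ((mul_eq_zero.1 this).resolve_right hc0).symm
            · field_simp
            · field_simp
              linear_combination -q2
        · refine ⟨ent x 0 1 / b, ?_, ?_, ?_⟩
          · field_simp
          · field_simp
            linear_combination -q0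
          · field_simp
            linear_combination q1
      have hdet' : ent x 0 0 * ent x 1 1 - ent x 0 1 * ent x 1 0 = 1 := hdx
      refine ⟨⟨((ent x 0 0 + ent x 1 1) / 2, v), ?_⟩, ?_⟩
      · change ((ent x 0 0 + ent x 1 1) / 2) ^ 2 + D * v ^ 2 = 1
        rw [hdet]
        have h4 : (4 : K) ≠ 0 := by
          have : (4 : K) = 2 * 2 := by norm_num
          rw [this]
          exact mul_ne_zero h2 h2
        field_simp
        linear_combination 4 * hdet' - (2 * (v * a) + (ent x 0 0 - ent x 1 1)) * hv3 - 4 * (v * c) * hv1 -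
          4 * (ent x 0 1) * hv2
      · apply Subtype.ext
        refine ext_ent ?_ ?_ ?_ ?_
        · change (ent x 0 0 + ent x 1 1) / 2 + v * a = ent x 0 0
          field_simp
          linear_combination hv3
        · exact hv1
        · exact hv2
        · change (ent x 0 0 + ent x 1 1) / 2 - v * a = ent x 1 1
          field_simp
          linear_combination -hv3
  obtain ⟨f, hf⟩ := hbij
  rw [← Nat.card_congr (Equiv.ofBijective f hf)]
  exact ⟨card_con_sq h2 hdet0, card_con_nsq h2 hdet0⟩

end Cfsg.Agent.H625.Gl2
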