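import Cfsg.Agent.Cit.HexInv
import Cfsg.Agent.Cit.HexCent2
import Cfsg.Agent.Cit.HexCore
import Cfsg.Agent.H625.IF.Gl2
import Cfsg.Agent.ClassicalGeometry.PSL2Basic

/-!
# S5719: the centraliser of an involution in `G₂(q)`, `³D₄(q)`, `q` odd (helper625)

* `card_CZ` : `|C(z)| = |SL₂(E)| |SL₂(F)|`;
* `cent_inv` : for an involution `s ≠ z` of `C(z)`: `|C_{K1}(s)|`, `|C_{K4}(s)|`, `|s^{C(z)}|`.
-/

set_option autoImplicit false
set_option linter.unusedSectionVars false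

namespace Cfsg.Agent.H625.IFx

open Cfsg.Agent.Cit.HexBase Cfsg.Agent.Lib.SL2Mat Cfsg.Agent.Cit.HexBase.HexGrp Subgroup

theorem exists_nonsq {F : Type*} [Field F] [Finite F] (h2 : (2 : F) ≠ 0) : ∃ s : F, s ≠ 0 ∧ ¬ IsSquare s ∧
    ∀ t : F, t ≠ 0 → (IsSquare (t * s) ↔ ¬ IsSquare t) := by
  have := Fintype.ofFinite F
  classical
  have hF : ringChar F ≠ 2 := by
    intro h
    apply h2
    have := ringChar.Nat.cast_ringChar (R := F)
    rw [h] at this
    exact_mod_cast this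
  obtain ⟨s, hs⟩ := FiniteField.exists_nonsquare hF
  have hs0 : s ≠ 0 := by
    rintro rfl
    exact hs (IsSquare.zero)
  refine ⟨s, hs0, hs, fun t ht => ?_⟩
  rw [← quadraticChar_one_iff_isSquare (mul_ne_zero ht hs0), map_mul, quadraticChar_neg_one_iff_not_isSquare.2 hs,
    ← quadraticChar_neg_one_iff_not_isSquare]
  constructor
  · intro h
    linarith
  · intro h
    rw [h]; norm_num

variable {E : Type*} [Field E] {σ : E ≃+* E} {T : Type*} [Group T] (c : HexGrp σ T)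

theorem mem_iff_sq [Finite E] (h2 : (2 : E) ≠ 0) (x : SL2 E) (y : SL2 ↥(fx σ)) (t : ↥(fx σ)) (ht : t ≠ 0) :
    (∃ (x' : SL2 E) (y' : SL2 ↥(fx σ)), c.pb x * c.p4 y * c.pa (dg t ht) = c.pb x' * c.p4 y') ↔ IsSquare t := by
  constructor
  · rintro ⟨x', y', e⟩
    obtain ⟨a, -, ha⟩ := c.sq_of_mem h2 e
    exact ⟨a, by rw [ha, pow_two]⟩
  · rintro ⟨a, rfl⟩
    have ha : a ≠ 0 := fun h => ht (by rw [h, mul_zero])
    have ha' : (a : E) ≠ 0 := fun h => ha (Subtype.ext h)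
    refine ⟨x * (dg (a : E) ha')⁻¹, y * dg a ha, ?_⟩
    have e := c.pa_dg_sq a ha
    have e2 : c.pa (dg (a * a) ht) = (c.pb (dg (a : E) ha'))⁻¹ * c.p4 (dg a ha) := by
      rw [← e]
      congr 2
      exact (pow_two a).symm
    rw [e2, map_mul, map_mul, map_inv]
    have h3 := c.comm_pb_p4 (dg (a : E) ha')⁻¹ y
    rw [map_inv] at h3
    calc c.pb x * c.p4 y * ((c.pb (dg (a : E) ha'))⁻¹ * c.p4 (dg a ha))
        = c.pb x * (c.p4 y * (c.pb (dg (a : E) ha'))⁻¹) * c.p4 (dg a ha) := by group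
      _ = _ := by rw [← h3]; group

/-- the product homomorphism `SL₂(E) × SL₂(F) → T` -/
def prodH : SL2 E × SL2 ↥(fx σ) →* T where
  toFun p := c.pb p.1 * c.p4 p.2
  map_one' := by simp
  map_mul' p q := by
    change c.pb (p.1 * q.1) * c.p4 (p.2 * q.2) = c.pb p.1 * c.p4 p.2 * (c.pb q.1 * c.p4 q.2)
    have h := c.comm_pb_p4 q.1 p.2
    rw [map_mul, map_mul]
    calc c.pb p.1 * c.pb q.1 * (c.p4 p.2 * c.p4 q.2) = c.pb p.1 * (c.pb q.1 * c.p4 p.2) * c.p4 q.2 := by group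
      _ = _ := by rw [h]; group

theorem prodH_apply (x : SL2 E) (y : SL2 ↥(fx σ)) : prodH c (x, y) = c.pb x * c.p4 y := rfl

theorem mem_range {g : T} : g ∈ (prodH c).range ↔ ∃ (x : SL2 E) (y : SL2 ↥(fx σ)), c.pb x * c.p4 y = g :=
  ⟨fun ⟨p, hp⟩ => ⟨p.1, p.2, hp⟩, fun ⟨x, y, h⟩ => ⟨(x, y), h⟩⟩

theorem pb_comm_z (x : SL2 E) : c.pb x * c.z = c.z * c.pb x := by
  rw [c.z_eq_p4]
  exact c.comm_pb_p4 _ _

theorem p4_comm_z (y : SL2 ↥(fx σ)) : c.p4 y * c.z = c.z * c.p4 y := (c.comm_pb_p4 _ _).symm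

theorem range_le : (prodH c).range ≤ centralizer ({c.z} : Set T) := by
  rintro _ ⟨⟨x, y⟩, rfl⟩
  rw [mem_centralizer_singleton_iff, prodH_apply]
  rw [mul_assoc, p4_comm_z c, ← mul_assoc, pb_comm_z c, mul_assoc]

theorem neg_one_ne {K : Type*} [Field K] (h2 : (2 : K) ≠ 0) :
    (1 : SL2 K) ≠ dg (-1) (neg_ne_zero.2 one_ne_zero) := by
  intro h
  have h1 := congrArg (fun x => ent x 0 0) h
  change (1 : K) = -1 at h1
  apply h2
  linear_combination h1

theorem card_ker [Finite E] (h2 : (2 : E) ≠ 0) : Nat.card (prodH c).ker = 2 := by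
  have h1 : (((prodH c).ker : Subgroup (SL2 E × SL2 ↥(fx σ))) : Set (SL2 E × SL2 ↥(fx σ))) =
      {(1, 1), (dg (-1) (neg_ne_zero.2 one_ne_zero), dg (-1) (neg_ne_zero.2 one_ne_zero))} := by
    ext ⟨a, b⟩
    rw [SetLike.mem_coe, MonoidHom.mem_ker, Set.mem_insert_iff, Set.mem_singleton_iff, Prod.mk.injEq, Prod.mk.injEq,
      prodH_apply]
    constructor
    · intro h
      have h3 : c.pb a = c.p4 b⁻¹ := by rw [map_inv]; exact eq_inv_of_mul_eq_one_left h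
      rcases c.eq_of_pb_eq_p4 h3 with h4 | h4
      · left
        refine ⟨c.pb_inj h2 (h4.trans (map_one _).symm), c.p4_inj ?_⟩
        rw [h4, one_mul] at h
        rw [h, map_one]
      · right
        refine ⟨c.pb_inj h2 h4, c.p4_inj ?_⟩
        rw [h4] at h
        rw [← c.z_eq_p4]
        have := c.z_sq
        calc c.p4 b = c.z * (c.z * c.p4 b) := by rw [← mul_assoc, this, one_mul]
          _ = c.z := by rw [h, mul_one]
    · rintro (⟨rfl, rfl⟩ | ⟨rfl, rfl⟩)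
      · rw [map_one, map_one, one_mul]
      · rw [← c.z_eq_p4]
        exact c.z_sq
  have h3 : Nat.card (prodH c).ker =
      (((prodH c).ker : Subgroup (SL2 E × SL2 ↥(fx σ))) : Set (SL2 E × SL2 ↥(fx σ))).ncard := rfl
  rw [h3, h1, Set.ncard_pair]
  intro h
  exact neg_one_ne h2 (congrArg Prod.fst h)

theorem card_range [Finite E] (h2 : (2 : E) ≠ 0) :
    Nat.card (prodH c).range * 2 = Nat.card (SL2 E) * Nat.card (SL2 ↥(fx σ)) := by
  have h1 := Subgroup.card_eq_card_quotient_mul_card_subgroup (prodH c).ker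
  rw [Nat.card_prod, Nat.card_congr (QuotientGroup.quotientKerEquivRange (prodH c)).toEquiv, card_ker c h2] at h1
  exact h1.symm

theorem relIndex_range [Finite E] (h2 : (2 : E) ≠ 0) : (prodH c).range.relIndex (centralizer ({c.z} : Set T)) = 2 := by
  obtain ⟨s, hs0, -, hs⟩ := exists_nonsq (F := ↥(fx σ)) (two_ne h2)
  have hpa : c.pa (dg s hs0) ∈ centralizer ({c.z} : Set T) := by
    rw [mem_centralizer_singleton_iff]
    have h := c.pa_dg_p4 h2 s hs0 (dg (-1) (neg_ne_zero.2 one_ne_zero))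
    have e : conjGL (dgl s hs0) (dg (-1 : ↥(fx σ)) (neg_ne_zero.2 one_ne_zero)) =
        dg (-1) (neg_ne_zero.2 one_ne_zero) := by
      rw [conjGL_dgl_ent]
      refine ext_ent ?_ ?_ ?_ ?_ <;> simp
    rw [e, ← z_eq_p4] at h
    rw [mul_inv_eq_iff_eq_mul] at h
    exact h
  have key : ∀ b : centralizer ({c.z} : Set T), b ∈ (prodH c).range.subgroupOf (centralizer ({c.z} : Set T)) ↔
      ∃ (x : SL2 E) (y : SL2 ↥(fx σ)), (b : T) = c.pb x * c.p4 y := fun b => by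
    rw [mem_subgroupOf, mem_range]
    exact ⟨fun ⟨x, y, h⟩ => ⟨x, y, h.symm⟩, fun ⟨x, y, h⟩ => ⟨x, y, h.symm⟩⟩
  rw [relIndex, index_eq_two_iff]
  refine ⟨⟨c.pa (dg s hs0), hpa⟩, fun b => ?_⟩
  rw [key, key]
  obtain ⟨x, y, t, ht, e⟩ := c.mem_CZ_form h2 (mem_centralizer_singleton_iff.1 b.2)
  have e1 : ((b * ⟨c.pa (dg s hs0), hpa⟩ : centralizer ({c.z} : Set T)) : T) =
      c.pb x * c.p4 y * c.pa (dg (t * s) (mul_ne_zero ht hs0)) := by
    show (b : T) * c.pa (dg s hs0) = _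
    rw [e, ← dg_mul_dg t s ht hs0, map_mul]
    group
  rw [e1, mem_iff_sq c h2, e, mem_iff_sq c h2, hs t ht]
  by_cases h : IsSquare t
  · right; exact ⟨h, not_not.2 h⟩
  · left; exact ⟨h, h⟩

theorem card_CZ [Finite E] [Finite T] (h2 : (2 : E) ≠ 0) :
    Nat.card (centralizer ({c.z} : Set T)) = Nat.card (SL2 E) * Nat.card (SL2 ↥(fx σ)) := by
  have h1 := relIndex_range c h2
  have h3 := ((prodH c).range.subgroupOf (centralizer ({c.z} : Set T))).card_mul_index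
  rw [← card_range c h2, ← h3, Nat.card_congr (subgroupOfEquivOfLe (range_le c)).toEquiv]
  rw [relIndex] at h1
  rw [h1]

/-! ### the action of an involution of `C(z)` on `K1` and `K4` -/

/-- the actions of an element of `C(z)` on `K1`, `K4` -/
theorem exists_act2 [Finite E] (h2 : (2 : E) ≠ 0) {s : T} (hs : s * c.z = c.z * s) :
    ∃ (g : GL (Fin 2) E) (g' : GL (Fin 2) ↥(fx σ)) (t : ↥(fx σ)), t ≠ 0 ∧ g.1.det = (t : E)⁻¹ ∧ g'.1.det = t ∧
      (∀ x, s * c.pb x * s⁻¹ = c.pb (conjGL g x)) ∧ (∀ y, s * c.p4 y * s⁻¹ = c.p4 (conjGL g' y)) ∧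
      (IsSquare t ↔ s ∈ (prodH c).range) := by
  obtain ⟨x, w, t, ht, rfl⟩ := c.mem_CZ_form h2 hs
  have ht' : (t : E) ≠ 0 := fun h => ht (Subtype.ext h)
  have hinv : (t : E)⁻¹ ≠ 0 := inv_ne_zero ht'
  refine ⟨Matrix.SpecialLinearGroup.toGL x * dgl (t : E)⁻¹ hinv, Matrix.SpecialLinearGroup.toGL w * dgl t ht, t, ht,
    ?_, ?_, ?_, ?_, ?_⟩
  · rw [Units.val_mul, Matrix.det_mul]
    have e1 : (Matrix.SpecialLinearGroup.toGL x).1.det = 1 := x.2
    have e2 : (dgl (t : E)⁻¹ hinv).1.det = (t : E)⁻¹ := by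
      change Matrix.det !![(t : E)⁻¹, 0; 0, 1] = _
      rw [Matrix.det_fin_two_of]
      ring
    rw [e1, e2, one_mul]
  · rw [Units.val_mul, Matrix.det_mul]
    have e1 : (Matrix.SpecialLinearGroup.toGL w).1.det = 1 := w.2
    have e2 : (dgl t ht).1.det = t := by
      change Matrix.det !![t, 0; 0, 1] = _
      rw [Matrix.det_fin_two_of]
      ring
    rw [e1, e2, one_mul]
  · intro v
    have k := c.pa_dg_pb t ht v
    have k3 := c.comm_pb_p4 (conjGL (dgl (t : E)⁻¹ hinv) v) w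
    rw [map_mul, MulAut.mul_apply, conjGL_toGL]
    calc c.pb x * c.p4 w * c.pa (dg t ht) * c.pb v * (c.pb x * c.p4 w * c.pa (dg t ht))⁻¹
        = c.pb x * (c.p4 w * (c.pa (dg t ht) * c.pb v * (c.pa (dg t ht))⁻¹)) * (c.p4 w)⁻¹ * (c.pb x)⁻¹ := by group
      _ = c.pb x * c.pb (conjGL (dgl (t : E)⁻¹ hinv) v) * (c.pb x)⁻¹ := by rw [k, ← k3]; group
      _ = _ := by rw [map_mul, map_mul, map_inv]
  · intro v
    have k := c.pa_dg_p4 h2 t ht v
    rw [map_mul, MulAut.mul_apply, conjGL_toGL]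
    have k3 := c.comm_pb_p4 x (w * conjGL (dgl t ht) v * w⁻¹)
    calc c.pb x * c.p4 w * c.pa (dg t ht) * c.p4 v * (c.pb x * c.p4 w * c.pa (dg t ht))⁻¹
        = c.pb x * (c.p4 w * (c.pa (dg t ht) * c.p4 v * (c.pa (dg t ht))⁻¹) * (c.p4 w)⁻¹) * (c.pb x)⁻¹ := by group
      _ = c.pb x * c.p4 (w * conjGL (dgl t ht) v * w⁻¹) * (c.pb x)⁻¹ := by rw [k, map_mul, map_mul, map_inv]
      _ = _ := by rw [k3]; group
  · rw [← mem_iff_sq c h2 x w t ht, mem_range]
    exact ⟨fun ⟨x', y', h⟩ => ⟨x', y', h.symm⟩, fun ⟨x', y', h⟩ => ⟨x', y', h.symm⟩⟩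

include c in
theorem sq_iff [Finite E] (h2 : (2 : E) ≠ 0) {t : ↥(fx σ)} (ht : t ≠ 0) : IsSquare (-(t : E)⁻¹) ↔ IsSquare (-t) := by
  have ht' : (t : E) ≠ 0 := fun h => ht (Subtype.ext h)
  constructor
  · rintro ⟨r, hr⟩
    have hr0 : r ≠ 0 := by
      rintro rfl
      rw [mul_zero, neg_eq_zero] at hr
      exact inv_ne_zero ht' hr
    have h1 : σ ((r⁻¹) ^ 2) = (r⁻¹) ^ 2 := by
      have e : (r⁻¹) ^ 2 = ((-t : ↥(fx σ)) : E) := by
        change (r⁻¹) ^ 2 = -(t : E)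
        field_simp
        have : r ^ 2 * (t : E) = -1 := by
          rw [pow_two, ← hr]
          field_simp
        linear_combination this
      rw [e]
      exact (-t : ↥(fx σ)).2
    have h3 := c.fix_of_sq h2 h1
    refine ⟨⟨r⁻¹, h3⟩, Subtype.ext ?_⟩
    change -(t : E) = r⁻¹ * r⁻¹
    field_simp
    have : r ^ 2 * (t : E) = -1 := by
      rw [pow_two, ← hr]
      field_simp
    linear_combination -this
  · rintro ⟨r, hr⟩
    have hr' : -(t : E) = (r : E) * r := congrArg Subtype.val hr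
    have hr0 : (r : E) ≠ 0 := by
      intro h
      rw [h, mul_zero, neg_eq_zero] at hr'
      exact ht' hr'
    refine ⟨(r : E)⁻¹, ?_⟩
    have : (t : E) = -((r : E) * r) := by linear_combination -hr'
    rw [this]
    field_simp


theorem fix_of_comm {g : GL (Fin 2) E} {s : T} (h2 : (2 : E) ≠ 0) (hg : ∀ x, s * c.pb x * s⁻¹ = c.pb (conjGL g x))
    (x : SL2 E) : s * c.pb x = c.pb x * s ↔ conjGL g x = x := by
  constructor
  · intro h
    apply c.pb_inj h2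
    rw [← hg, h, mul_inv_cancel_right]
  · intro h
    have := hg x
    rw [h, mul_inv_eq_iff_eq_mul] at this
    exact this

theorem fix_of_comm' {g : GL (Fin 2) ↥(fx σ)} {s : T} (hg : ∀ x, s * c.p4 x * s⁻¹ = c.p4 (conjGL g x))
    (x : SL2 ↥(fx σ)) : s * c.p4 x = c.p4 x * s ↔ conjGL g x = x := by
  constructor
  · intro h
    apply c.p4_inj
    rw [← hg, h, mul_inv_cancel_right]
  · intro h
    have := hg x
    rw [h, mul_inv_eq_iff_eq_mul] at this
    exact this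

theorem neg_one_comm {K : Type*} [Field K] (x : SL2 K) :
    dg (-1) (neg_ne_zero.2 one_ne_zero) * x = x * dg (-1) (neg_ne_zero.2 one_ne_zero) := by
  refine ext_ent ?_ ?_ ?_ ?_ <;> simp [ent_mul]

theorem cancel_neg_one {K : Type*} [Field K] (x y : SL2 K) :
    (x * dg (-1) (neg_ne_zero.2 one_ne_zero))⁻¹ * (y * dg (-1) (neg_ne_zero.2 one_ne_zero)) = x⁻¹ * y := by
  rw [← neg_one_comm x, ← neg_one_comm y]
  group

/-- **An involution `s ≠ z` of `C(z)`**, given by its actions on `K1`, `K4` (`-t` a square: `e = 1`). -/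
theorem cent_act [Finite E] [Finite T] (h2 : (2 : E) ≠ 0) {s : T} (hss : s * s = 1)
    (h1 : s ≠ 1) (hz : s ≠ c.z) {g : GL (Fin 2) E} {g' : GL (Fin 2) ↥(fx σ)} {t : ↥(fx σ)} (ht : t ≠ 0)
    (hd : g.1.det = (t : E)⁻¹) (hd' : g'.1.det = t) (hg : ∀ x, s * c.pb x * s⁻¹ = c.pb (conjGL g x))
    (hg' : ∀ y, s * c.p4 y * s⁻¹ = c.p4 (conjGL g' y)) {e : ℤ}
    (he : (e = 1 ∧ IsSquare (-t)) ∨ (e = -1 ∧ ¬ IsSquare (-t))) :
      (Nat.card (centralizer ({s} : Set T) ⊓ c.K1 : Subgroup T) : ℤ) = Nat.card E - e ∧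
      (Nat.card (centralizer ({s} : Set T) ⊓ c.K4 : Subgroup T) : ℤ) = Nat.card ↥(fx σ) - e ∧
      (Nat.card E : ℤ) * (Nat.card E + e) * (Nat.card ↥(fx σ) * (Nat.card ↥(fx σ) + e)) ≤
        2 * ((centralizer ({s} : Set T)).relIndex (centralizer ({c.z} : Set T)) : ℤ) := by
  classical
  have h2' : (2 : ↥(fx σ)) ≠ 0 := two_ne h2
  have hinv : s⁻¹ = s := inv_eq_of_mul_eq_one_left hss
  -- the actions are of order two
  have n1 : conjGL g ≠ 1 := by
    intro h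
    have h3 : ∀ x, s * c.pb x = c.pb x * s := fun x => (fix_of_comm c h2 hg x).2 (by rw [h]; rfl)
    obtain ⟨y, hy⟩ := c.centralizer_K1 h2 h3
    rcases c.p4_sq h2 (w := y) (by rw [show c.p4 y = s from hy]; exact hss) with h4 | h4
    · exact h1 (hy.symm.trans h4)
    · exact hz (hy.symm.trans h4)
  have n4 : conjGL g' ≠ 1 := by
    intro h
    have h3 : ∀ x, s * c.p4 x = c.p4 x * s := fun x => (fix_of_comm' c hg' x).2 (by rw [h]; rfl)
    obtain ⟨y, hy⟩ := c.centralizer_K4 h2 h3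
    rcases c.pb_sq h2 (x := y) (by rw [show c.pb y = s from hy]; exact hss) with h4 | h4
    · exact h1 (hy.symm.trans h4)
    · exact hz (hy.symm.trans h4)
  have m1 : conjGL g * conjGL g = 1 := by
    ext1 x
    apply c.pb_inj h2
    change c.pb (conjGL g (conjGL g x)) = c.pb x
    rw [← hg, ← hg, hinv]
    calc s * (s * c.pb x * s) * s = (s * s) * c.pb x * (s * s) := by group
      _ = c.pb x := by rw [hss, one_mul, mul_one]
  have m4 : conjGL g' * conjGL g' = 1 := by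
    ext1 x
    apply c.p4_inj
    change c.p4 (conjGL g' (conjGL g' x)) = c.p4 x
    rw [← hg', ← hg', hinv]
    calc s * (s * c.p4 x * s) * s = (s * s) * c.p4 x * (s * s) := by group
      _ = c.p4 x := by rw [hss, one_mul, mul_one]
  -- the fixed points
  have c1 : Nat.card (centralizer ({s} : Set T) ⊓ c.K1 : Subgroup T) = Nat.card {x : SL2 E // conjGL g x = x} := by
    symm
    refine Nat.card_congr (Equiv.ofBijective (fun x => ⟨c.pb x.1, mem_inf.2 ⟨?_, x.1, rfl⟩⟩) ⟨?_, ?_⟩)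
    · rw [mem_centralizer_singleton_iff]
      exact ((fix_of_comm c h2 hg x.1).2 x.2).symm
    · intro x y h
      exact Subtype.ext (c.pb_inj h2 (congrArg Subtype.val h))
    · rintro ⟨y, hy⟩
      obtain ⟨hy1, x, rfl⟩ := mem_inf.1 hy
      exact ⟨⟨x, (fix_of_comm c h2 hg x).1 (mem_centralizer_singleton_iff.1 hy1).symm⟩, rfl⟩
  have c4 : Nat.card (centralizer ({s} : Set T) ⊓ c.K4 : Subgroup T) =
      Nat.card {x : SL2 ↥(fx σ) // conjGL g' x = x} := by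
    symm
    refine Nat.card_congr (Equiv.ofBijective (fun x => ⟨c.p4 x.1, mem_inf.2 ⟨?_, x.1, rfl⟩⟩) ⟨?_, ?_⟩)
    · rw [mem_centralizer_singleton_iff]
      exact ((fix_of_comm' c hg' x.1).2 x.2).symm
    · intro x y h
      exact Subtype.ext (c.p4_inj (congrArg Subtype.val h))
    · rintro ⟨y, hy⟩
      obtain ⟨hy1, x, rfl⟩ := mem_inf.1 hy
      exact ⟨⟨x, (fix_of_comm' c hg' x).1 (mem_centralizer_singleton_iff.1 hy1).symm⟩, rfl⟩
  have f1 := Gl2.card_fix h2 g n1 m1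
  have f4 := Gl2.card_fix h2' g' n4 m4
  rw [hd] at f1
  rw [hd'] at f4
  -- the stabiliser in `SL₂(E) × SL₂(F)`
  obtain ⟨S, hS⟩ : ∃ S : Subgroup (SL2 E × SL2 ↥(fx σ)), S = (centralizer ({s} : Set T)).comap (prodH c) := ⟨_, rfl⟩
  have hSmem : ∀ p, p ∈ S → (conjGL g p.1 = p.1 ∧ conjGL g' p.2 = p.2) ∨
      (conjGL g p.1 = p.1 * dg (-1) (neg_ne_zero.2 one_ne_zero) ∧
        conjGL g' p.2 = p.2 * dg (-1) (neg_ne_zero.2 one_ne_zero)) := by
    rintro ⟨x, y⟩ hp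
    rw [hS, mem_comap, mem_centralizer_singleton_iff, prodH_apply] at hp
    have e1 : c.pb (conjGL g x) * c.p4 (conjGL g' y) = c.pb x * c.p4 y := by
      rw [← hg, ← hg']
      calc s * c.pb x * s⁻¹ * (s * c.p4 y * s⁻¹) = s * (c.pb x * c.p4 y) * s⁻¹ := by group
        _ = c.pb x * c.p4 y := by rw [← hp, mul_inv_cancel_right]
    have e2 : c.pb (x⁻¹ * conjGL g x) = c.p4 (y * (conjGL g' y)⁻¹) := by
      rw [map_mul, map_mul, map_inv, map_inv]
      calc (c.pb x)⁻¹ * c.pb (conjGL g x) = (c.pb x)⁻¹ * (c.pb (conjGL g x) * c.p4 (conjGL g' y)) *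
            (c.p4 (conjGL g' y))⁻¹ := by group
        _ = _ := by rw [e1]; group
    change (conjGL g x = x ∧ conjGL g' y = y) ∨ _
    rcases c.eq_of_pb_eq_p4 e2 with h | h
    · left
      have h3 := c.pb_inj h2 (h.trans (map_one _).symm)
      have h4 := c.p4_inj ((e2.symm.trans h).trans (map_one _).symm)
      exact ⟨(inv_mul_eq_one.1 h3).symm, (mul_inv_eq_one.1 h4).symm⟩
    · right
      have h3 : x⁻¹ * conjGL g x = dg (-1) (neg_ne_zero.2 one_ne_zero) := c.pb_inj h2 h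
      have h4 : y * (conjGL g' y)⁻¹ = dg (-1) (neg_ne_zero.2 one_ne_zero) :=
        c.p4_inj ((e2.symm.trans h).trans c.z_eq_p4)
      refine ⟨inv_mul_eq_iff_eq_mul.1 h3, ?_⟩
      have h5 : (dg (-1) (neg_ne_zero.2 one_ne_zero) : SL2 ↥(fx σ)) * dg (-1) (neg_ne_zero.2 one_ne_zero) = 1 := by
        rw [dg_mul_dg]
        refine ext_ent ?_ ?_ ?_ ?_ <;> simp
      have h6 : (conjGL g' y)⁻¹ = y⁻¹ * dg (-1) (neg_ne_zero.2 one_ne_zero) := by
        rw [← h4]; group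
      have h7 : conjGL g' y = (dg (-1) (neg_ne_zero.2 one_ne_zero))⁻¹ * y := by
        rw [← inv_inv (conjGL g' y), h6]; group
      have h8 : ((dg (-1) (neg_ne_zero.2 one_ne_zero))⁻¹ : SL2 ↥(fx σ)) = dg (-1) (neg_ne_zero.2 one_ne_zero) :=
        inv_eq_of_mul_eq_one_left h5
      change conjGL g' y = y * _
      rw [h7, h8]
      refine ext_ent ?_ ?_ ?_ ?_ <;> simp [ent_mul]
  have hScard : Nat.card S ≤ 2 * (Nat.card {x : SL2 E // conjGL g x = x} *
      Nat.card {x : SL2 ↥(fx σ) // conjGL g' x = x}) := by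
    have key : ∃ p0 : SL2 E × SL2 ↥(fx σ), ∀ p ∈ S, (conjGL g p.1 = p.1 ∧ conjGL g' p.2 = p.2) ∨
        (conjGL g (p0.1⁻¹ * p.1) = p0.1⁻¹ * p.1 ∧ conjGL g' (p0.2⁻¹ * p.2) = p0.2⁻¹ * p.2) := by
      by_cases h : ∀ p ∈ S, (conjGL g p.1 = p.1 ∧ conjGL g' p.2 = p.2)
      · exact ⟨1, fun p hp => Or.inl (h p hp)⟩
      · push Not at h
        obtain ⟨p0, hp0, hne⟩ := h
        refine ⟨p0, fun p hp => ?_⟩
        rcases hSmem p hp with h3 | h3
        · exact Or.inl h3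
        · right
          have h4 := (hSmem p0 hp0).resolve_left (fun h => hne h.1 h.2)
          rw [map_mul, map_mul, map_inv, map_inv, h3.1, h3.2, h4.1, h4.2]
          exact ⟨cancel_neg_one _ _, cancel_neg_one _ _⟩
    obtain ⟨p0, hp0⟩ := key
    let f : S → ({x : SL2 E // conjGL g x = x} × {x : SL2 ↥(fx σ) // conjGL g' x = x}) × Bool := fun p =>
      if h : (conjGL g p.1.1 = p.1.1 ∧ conjGL g' p.1.2 = p.1.2) then ((⟨p.1.1, h.1⟩, ⟨p.1.2, h.2⟩), true)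
      else ((⟨p0.1⁻¹ * p.1.1, ((hp0 p.1 p.2).resolve_left h).1⟩, ⟨p0.2⁻¹ * p.1.2, ((hp0 p.1 p.2).resolve_left h).2⟩),
        false)
    have hf : Function.Injective f := by
      intro p p' h
      by_cases h3 : (conjGL g p.1.1 = p.1.1 ∧ conjGL g' p.1.2 = p.1.2) <;>
        by_cases h4 : (conjGL g p'.1.1 = p'.1.1 ∧ conjGL g' p'.1.2 = p'.1.2)
      · simp only [f, h3, h4, dif_pos, and_self] at h
        have a1 := congrArg (fun w => w.1.1.1) h
        have a2 := congrArg (fun w => w.1.2.1) h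
        exact Subtype.ext (Prod.ext a1 a2)
      · simp only [f, dif_pos h3, dif_neg h4] at h
        exact absurd (congrArg Prod.snd h) (by simp)
      · simp only [f, dif_neg h3, dif_pos h4] at h
        exact absurd (congrArg Prod.snd h) (by simp)
      · simp only [f, dif_neg h3, dif_neg h4] at h
        have a1 := congrArg (fun w => w.1.1.1) h
        have a2 := congrArg (fun w => w.1.2.1) h
        exact Subtype.ext (Prod.ext (mul_left_cancel a1) (mul_left_cancel a2))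
    have h5 := Nat.card_le_card_of_injective f hf
    rw [Nat.card_prod, Nat.card_prod, Nat.card_eq_fintype_card (α := Bool), Fintype.card_bool] at h5
    linarith
  -- the index
  have hidx : S.index ≤ (centralizer ({s} : Set T)).relIndex (centralizer ({c.z} : Set T)) := by
    rw [hS, index_comap]
    exact relIndex_le_of_le_right (range_le c) (by
      rw [relIndex]
      exact FiniteIndex.index_ne_zero)
  have hmul := S.card_mul_index
  rw [Nat.card_prod] at hmul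
  have := Fintype.ofFinite E
  have := Fintype.ofFinite ↥(fx σ)
  have s1 : Nat.card (SL2 E) = Nat.card E * (Nat.card E ^ 2 - 1) := by
    rw [Nat.card_eq_fintype_card (α := E)]
    exact ClassicalGeometry.PSL2Basic.card_SL2 _
  have s4 : Nat.card (SL2 ↥(fx σ)) = Nat.card ↥(fx σ) * (Nat.card ↥(fx σ) ^ 2 - 1) := by
    rw [Nat.card_eq_fintype_card (α := ↥(fx σ))]
    exact ClassicalGeometry.PSL2Basic.card_SL2 _
  have p1 : 2 ≤ Nat.card E := Finite.one_lt_card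
  have p4 : 2 ≤ Nat.card ↥(fx σ) := Finite.one_lt_card
  have s1' : (Nat.card (SL2 E) : ℤ) = Nat.card E * ((Nat.card E : ℤ) ^ 2 - 1) := by
    rw [s1, Nat.cast_mul, Nat.cast_sub (by nlinarith), Nat.cast_pow, Nat.cast_one]
  have s4' : (Nat.card (SL2 ↥(fx σ)) : ℤ) = Nat.card ↥(fx σ) * ((Nat.card ↥(fx σ) : ℤ) ^ 2 - 1) := by
    rw [s4, Nat.cast_mul, Nat.cast_sub (by nlinarith), Nat.cast_pow, Nat.cast_one]
  have hmul' : (Nat.card S : ℤ) * S.index = Nat.card (SL2 E) * Nat.card (SL2 ↥(fx σ)) := by exact_mod_cast hmul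
  rw [s1', s4'] at hmul'
  have final : ∀ e : ℤ, (e = 1 ∨ e = -1) → (Nat.card {x : SL2 E // conjGL g x = x} : ℤ) = Nat.card E - e →
      (Nat.card {x : SL2 ↥(fx σ) // conjGL g' x = x} : ℤ) = Nat.card ↥(fx σ) - e →
      (Nat.card E : ℤ) * (Nat.card E + e) * (Nat.card ↥(fx σ) * (Nat.card ↥(fx σ) + e)) ≤
        2 * ((centralizer ({s} : Set T)).relIndex (centralizer ({c.z} : Set T)) : ℤ) := by
    intro e he h3 h4
    have hS' : (Nat.card S : ℤ) ≤ 2 * (((Nat.card E : ℤ) - e) * (Nat.card ↥(fx σ) - e)) := by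
      rw [← h3, ← h4]
      exact_mod_cast hScard
    have hi : (S.index : ℤ) ≤ (centralizer ({s} : Set T)).relIndex (centralizer ({c.z} : Set T)) := by
      exact_mod_cast hidx
    have q1 : (2 : ℤ) ≤ Nat.card E := by exact_mod_cast p1
    have q4 : (2 : ℤ) ≤ Nat.card ↥(fx σ) := by exact_mod_cast p4
    have hee : e * e = 1 := by rcases he with rfl | rfl <;> norm_num
    have pos1 : (0 : ℤ) < Nat.card E - e := by rcases he with rfl | rfl <;> linarith
    have pos4 : (0 : ℤ) < Nat.card ↥(fx σ) - e := by rcases he with rfl | rfl <;> linarith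
    have hi0 : (0 : ℤ) ≤ S.index := by positivity
    have key : (((Nat.card E : ℤ) - e) * (Nat.card ↥(fx σ) - e)) *
        ((Nat.card E : ℤ) * (Nat.card E + e) * (Nat.card ↥(fx σ) * (Nat.card ↥(fx σ) + e))) ≤
        (((Nat.card E : ℤ) - e) * (Nat.card ↥(fx σ) - e)) * (2 * S.index) := by
      have e1 : (((Nat.card E : ℤ) - e) * (Nat.card ↥(fx σ) - e)) *
        ((Nat.card E : ℤ) * (Nat.card E + e) * (Nat.card ↥(fx σ) * (Nat.card ↥(fx σ) + e))) =
        Nat.card E * ((Nat.card E : ℤ) ^ 2 - 1) * (Nat.card ↥(fx σ) * ((Nat.card ↥(fx σ) : ℤ) ^ 2 - 1)) := by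
        have : ∀ a b : ℤ, (a - e) * (b - e) * (a * (a + e) * (b * (b + e))) =
            a * (a ^ 2 - e * e) * (b * (b ^ 2 - e * e)) := fun a b => by ring
        rw [this, hee]
      rw [e1, ← hmul']
      nlinarith [mul_le_mul_of_nonneg_right hS' hi0]
    have := le_of_mul_le_mul_left key (mul_pos pos1 pos4)
    linarith
  rw [c1, c4]
  rcases he with ⟨rfl, hsq⟩ | ⟨rfl, hsq⟩
  · have a1 := f1.1 ((sq_iff c h2 ht).2 hsq)
    have a4 := f4.1 hsq
    refine ⟨?_, ?_, final 1 (Or.inl rfl) ?_ ?_⟩ <;> push_cast [← a1, ← a4] <;> ring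
  · have a1 := f1.2 (fun h => hsq ((sq_iff c h2 ht).1 h))
    have a4 := f4.2 hsq
    refine ⟨?_, ?_, final (-1) (Or.inr rfl) ?_ ?_⟩ <;> push_cast [a1, a4] <;> ring

/-- **An involution `s ≠ z` of `C(z)`** (`e = 1`: the tori `C_{K1}(s)`, `C_{K4}(s)` are split, `e = -1`: they are not). -/
theorem cent_inv [Finite E] [Finite T] (h2 : (2 : E) ≠ 0) {s : T} (hs : s * c.z = c.z * s) (hss : s * s = 1)
    (h1 : s ≠ 1) (hz : s ≠ c.z) : ∃ e : ℤ, (e = 1 ∨ e = -1) ∧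
      (Nat.card (centralizer ({s} : Set T) ⊓ c.K1 : Subgroup T) : ℤ) = Nat.card E - e ∧
      (Nat.card (centralizer ({s} : Set T) ⊓ c.K4 : Subgroup T) : ℤ) = Nat.card ↥(fx σ) - e ∧
      (Nat.card E : ℤ) * (Nat.card E + e) * (Nat.card ↥(fx σ) * (Nat.card ↥(fx σ) + e)) ≤
        2 * ((centralizer ({s} : Set T)).relIndex (centralizer ({c.z} : Set T)) : ℤ) := by
  obtain ⟨g, g', t, ht, hd, hd', hg, hg', -⟩ := exists_act2 c h2 hs
  by_cases hsq : IsSquare (-t)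
  · exact ⟨1, Or.inl rfl, cent_act c h2 hss h1 hz ht hd hd' hg hg' (Or.inl ⟨rfl, hsq⟩)⟩
  · exact ⟨-1, Or.inr rfl, cent_act c h2 hss h1 hz ht hd hd' hg hg' (Or.inr ⟨rfl, hsq⟩)⟩

theorem n1_mul_n1 : c.n1 * c.n1 = c.z := by
  rw [n1, ← map_mul]
  congr 1
  refine ext_ent ?_ ?_ ?_ ?_ <;> simp [ent_mul, wm]

theorem n4_mul_n4 : c.n4 * c.n4 = c.z := by
  rw [n4, ← map_mul, c.z_eq_p4]
  congr 1
  refine ext_ent ?_ ?_ ?_ ?_ <;> simp [ent_mul, wm]

/-- both types occur, for `s = y h`, `h = pa (dg t)`; `s ∈ K1 K4` iff `t` is a square -/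
theorem exists_type [Finite E] [Finite T] (h2 : (2 : E) ≠ 0) {e : ℤ} (he : e = 1 ∨ e = -1) :
    ∃ (t : ↥(fx σ)) (ht : t ≠ 0) (s : T), s = c.y * c.pa (dg t ht) ∧ s * c.z = c.z * s ∧ s * s = 1 ∧ s ≠ 1 ∧ s ≠ c.z ∧
      ((e = 1 ∧ IsSquare (-t)) ∨ (e = -1 ∧ ¬ IsSquare (-t))) ∧
      (Nat.card (centralizer ({s} : Set T) ⊓ c.K1 : Subgroup T) : ℤ) = Nat.card E - e ∧
      (Nat.card (centralizer ({s} : Set T) ⊓ c.K4 : Subgroup T) : ℤ) = Nat.card ↥(fx σ) - e := by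
  obtain ⟨t, ht, het⟩ : ∃ t : ↥(fx σ), t ≠ 0 ∧ ((e = 1 ∧ IsSquare (-t)) ∨ (e = -1 ∧ ¬ IsSquare (-t))) := by
    rcases he with rfl | rfl
    · exact ⟨-1, neg_ne_zero.2 one_ne_zero, Or.inl ⟨rfl, ⟨1, by ring⟩⟩⟩
    · obtain ⟨s, hs0, hs, -⟩ := exists_nonsq (F := ↥(fx σ)) (two_ne h2)
      exact ⟨-s, neg_ne_zero.2 hs0, Or.inr ⟨rfl, by rwa [neg_neg]⟩⟩
  have hh : c.pa (dg t ht) ∈ c.T0 := ⟨_, _, c.act_a t ht⟩
  have hyy : c.y * c.y = 1 := by
    have h := c.comm_pb_p4 (wm 1 one_ne_zero) (wm 1 one_ne_zero)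
    change c.n1 * c.n4 = c.n4 * c.n1 at h
    calc c.y * c.y = c.n1 * (c.n4 * c.n1) * c.n4 := by rw [y]; group
      _ = (c.n1 * c.n1) * (c.n4 * c.n4) := by rw [← h]; group
      _ = 1 := by rw [n1_mul_n1, n4_mul_n4, c.z_sq]
  have hyz : c.y * c.z = c.z * c.y := by
    rw [y, mul_assoc, show c.n4 * c.z = c.z * c.n4 from p4_comm_z c _, ← mul_assoc,
      show c.n1 * c.z = c.z * c.n1 from pb_comm_z c _, mul_assoc]
  obtain ⟨s, hs⟩ : ∃ s, s = c.y * c.pa (dg t ht) := ⟨_, rfl⟩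
  have hss : s * s = 1 := by
    have h3 := c.y_conj hh
    have hyi : c.y⁻¹ = c.y := inv_eq_of_mul_eq_one_left hyy
    rw [hyi] at h3
    calc s * s = (c.y * c.pa (dg t ht) * c.y) * c.pa (dg t ht) := by rw [hs]; group
      _ = 1 := by rw [h3, inv_mul_cancel]
  have hsz : s * c.z = c.z * s := by
    have h3 := c.T0_comm hh ⟨_, _, c.act_z⟩
    rw [hs, mul_assoc, h3, ← mul_assoc, hyz, mul_assoc]
  -- `s` maps `X 1` to `X 7`
  have hmap : ∀ x ∈ c.X 1, s * x * s⁻¹ ∈ c.X 7 := by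
    intro x hx
    have h3 : c.pa (dg t ht) * x * (c.pa (dg t ht))⁻¹ ∈ c.X 1 := maps_mem (c.act_a t ht).maps hx rfl
    have h4 : c.y * (c.pa (dg t ht) * x * (c.pa (dg t ht))⁻¹) * c.y⁻¹ ∈ c.X 7 := maps_mem c.maps_y h3 (by decide +kernel)
    rw [hs]
    convert h4 using 1
    group
  have hx1 : c.x1 1 ∈ c.X 1 := c.mem1 1
  have hx1ne : c.x1 1 ≠ 1 := by
    intro h
    rw [← c.pb_up] at h
    have h3 := c.pb_inj h2 (h.trans (map_one _).symm)
    have h4 := congrArg (fun x => ent x 0 1) h3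
    simp at h4
  have hcz : c.z * c.x1 1 * c.z⁻¹ ∈ c.X 1 := maps_mem c.act_z.maps hx1 rfl
  have hs1 : s ≠ 1 := by
    intro h
    have h3 := hmap _ hx1
    rw [h, one_mul, inv_one, mul_one] at h3
    exact hx1ne (c.eq_one_of_ne (by decide +kernel : (1 : ZMod (2 * 6)) ≠ 7) hx1 h3)
  have hsz' : s ≠ c.z := by
    intro h
    have h3 := hmap _ hx1
    rw [h] at h3
    have h4 := c.eq_one_of_ne (by decide +kernel : (1 : ZMod (2 * 6)) ≠ 7) hcz h3
    exact hx1ne (conj_eq_one_iff.1 h4)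
  -- the actions
  have ht' : (t : E) ≠ 0 := fun h => ht (Subtype.ext h)
  have hinv : (t : E)⁻¹ ≠ 0 := inv_ne_zero ht'
  have k1 : ∀ x, s * c.pb x * s⁻¹ =
      c.pb (conjGL (Matrix.SpecialLinearGroup.toGL (wm 1 one_ne_zero) * dgl (t : E)⁻¹ hinv) x) := by
    intro x
    have k := c.pa_dg_pb t ht x
    have k3 := c.comm_pb_p4 (conjGL (dgl (t : E)⁻¹ hinv) x) (wm 1 one_ne_zero)
    change c.pb _ * c.n4 = c.n4 * c.pb _ at k3
    rw [map_mul, MulAut.mul_apply, conjGL_toGL, hs, y]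
    calc c.n1 * c.n4 * c.pa (dg t ht) * c.pb x * (c.n1 * c.n4 * c.pa (dg t ht))⁻¹
        = c.n1 * (c.n4 * (c.pa (dg t ht) * c.pb x * (c.pa (dg t ht))⁻¹)) * c.n4⁻¹ * c.n1⁻¹ := by group
      _ = c.n1 * c.pb (conjGL (dgl (t : E)⁻¹ hinv) x) * c.n1⁻¹ := by rw [k, ← k3]; group
      _ = _ := by rw [map_mul, map_mul, map_inv]; rfl
  have k4 : ∀ x, s * c.p4 x * s⁻¹ =
      c.p4 (conjGL (Matrix.SpecialLinearGroup.toGL (wm 1 one_ne_zero) * dgl t ht) x) := by
    intro x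
    have k := c.pa_dg_p4 h2 t ht x
    have k3 := c.comm_pb_p4 (wm 1 one_ne_zero) (wm 1 one_ne_zero * conjGL (dgl t ht) x * (wm 1 one_ne_zero)⁻¹)
    change c.n1 * _ = _ * c.n1 at k3
    rw [map_mul, MulAut.mul_apply, conjGL_toGL, hs, y]
    calc c.n1 * c.n4 * c.pa (dg t ht) * c.p4 x * (c.n1 * c.n4 * c.pa (dg t ht))⁻¹
        = c.n1 * (c.n4 * (c.pa (dg t ht) * c.p4 x * (c.pa (dg t ht))⁻¹) * c.n4⁻¹) * c.n1⁻¹ := by group
      _ = c.n1 * c.p4 (wm 1 one_ne_zero * conjGL (dgl t ht) x * (wm 1 one_ne_zero)⁻¹) * c.n1⁻¹ := by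
          rw [k, map_mul, map_mul, map_inv]; rfl
      _ = _ := by rw [k3]; group
  have d1 : (Matrix.SpecialLinearGroup.toGL (wm 1 one_ne_zero) * dgl (t : E)⁻¹ hinv).1.det = (t : E)⁻¹ := by
    rw [Units.val_mul, Matrix.det_mul]
    have e1 : (Matrix.SpecialLinearGroup.toGL (wm (1 : E) one_ne_zero)).1.det = 1 :=
      (wm (1 : E) one_ne_zero).2
    have e2 : (dgl (t : E)⁻¹ hinv).1.det = (t : E)⁻¹ := by
      change Matrix.det !![(t : E)⁻¹, 0; 0, 1] = _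
      rw [Matrix.det_fin_two_of]
      ring
    rw [e1, e2, one_mul]
  have d4 : (Matrix.SpecialLinearGroup.toGL (wm 1 one_ne_zero) * dgl t ht).1.det = t := by
    rw [Units.val_mul, Matrix.det_mul]
    have e1 : (Matrix.SpecialLinearGroup.toGL (wm (1 : ↥(fx σ)) one_ne_zero)).1.det = 1 :=
      (wm (1 : ↥(fx σ)) one_ne_zero).2
    have e2 : (dgl t ht).1.det = t := by
      change Matrix.det !![t, 0; 0, 1] = _
      rw [Matrix.det_fin_two_of]
      ring
    rw [e1, e2, one_mul]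
  have fin := cent_act c h2 hss hs1 hsz' ht d1 d4 k1 k4 het
  exact ⟨t, ht, s, hs, hsz, hss, hs1, hsz', het, fin.1, fin.2.1⟩

end Cfsg.Agent.H625.IFx
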