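import Cfsg.Agent.H625.IF.Cen

/-!
# S5719: unipotent elements of `K1`, `K4` and involutions of `C(z)` (helper625)
-/

set_option autoImplicit false
set_option linter.unusedSectionVars false

namespace Cfsg.Agent.H625.Gl2

open Cfsg.Agent.Lib.SL2Mat

variable {K : Type*} [Field K]

/-- an element of `SL₂(K)` with `u ^ |K| = 1` has trace 2 -/
theorem trace_two [Finite K] {u : Matrix.SpecialLinearGroup (Fin 2) K} (hu : u ^ Nat.card K = 1) :
    ent u 0 0 + ent u 1 1 = 2 := by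
  have := Fintype.ofFinite K
  obtain ⟨p, hp⟩ := CharP.exists K
  have hpp : Fact p.Prime := ⟨CharP.char_is_prime K p⟩
  obtain ⟨n, -, hn⟩ := FiniteField.card K p
  have hcard : Nat.card K = p ^ (n : ℕ) := by rw [Nat.card_eq_fintype_card]; exact hn
  have h1 : (u.1 - 1) ^ (p ^ (n : ℕ)) = u.1 ^ (p ^ (n : ℕ)) - 1 := by
    rw [sub_pow_char_pow_of_commute (p := p) (h := Commute.one_right u.1), one_pow]
  have h3 : u.1 ^ (p ^ (n : ℕ)) = 1 := by
    rw [← hcard]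
    have := congrArg Subtype.val hu
    rw [Matrix.SpecialLinearGroup.coe_pow] at this
    exact this
  rw [h3, sub_self] at h1
  have h4 : (u.1 - 1).det = 0 := by
    have h5 := congrArg Matrix.det h1
    rw [Matrix.det_pow, Matrix.det_zero] at h5
    exact pow_eq_zero_iff (pow_ne_zero _ hpp.out.ne_zero) |>.1 h5
  have h5 := det_eq u
  rw [Matrix.det_fin_two] at h4
  simp only [Matrix.sub_apply, Matrix.one_apply_eq, Matrix.one_apply_ne (show (0 : Fin 2) ≠ 1 by decide),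
    Matrix.one_apply_ne (show (1 : Fin 2) ≠ 0 by decide), sub_zero] at h4
  change (ent u 0 0 - 1) * (ent u 1 1 - 1) - ent u 0 1 * ent u 1 0 = 0 at h4
  linear_combination h5 - h4

theorem conj_iff (g : GL (Fin 2) K) (x : Matrix.SpecialLinearGroup (Fin 2) K) :
    conjGL g x = x ↔ g.1 * x.1 = x.1 * g.1 := by
  constructor
  · intro h
    have h3 := congrArg Subtype.val h
    rw [conjGL_val] at h3
    calc g.1 * x.1 = (g.1 * x.1 * g⁻¹.1) * g.1 := by
          rw [Matrix.mul_assoc (g.1 * x.1), ← Units.val_mul, inv_mul_cancel, Units.val_one, Matrix.mul_one]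
      _ = x.1 * g.1 := by rw [h3]
  · intro h
    apply Subtype.ext
    rw [conjGL_val, h, Matrix.mul_assoc, ← Units.val_mul, mul_inv_cancel, Units.val_one, Matrix.mul_one]

/-- an element of `GL₂(K)` commuting with a nontrivial unipotent element -/
theorem comm_unip [Finite K] (g : GL (Fin 2) K) {u : Matrix.SpecialLinearGroup (Fin 2) K}
    (hu : u ^ Nat.card K = 1) (h1 : u ≠ 1) (hg : conjGL g u = u) : 4 * g.1.det = (g.1 0 0 + g.1 1 1) ^ 2 := by
  have htr := trace_two hu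
  have hd := det_eq u
  have hc := (conj_iff g u).1 hg
  obtain ⟨a, ha⟩ : ∃ a, a = g.1 0 0 := ⟨_, rfl⟩
  obtain ⟨b, hb⟩ : ∃ b, b = g.1 0 1 := ⟨_, rfl⟩
  obtain ⟨c, hcc⟩ : ∃ c, c = g.1 1 0 := ⟨_, rfl⟩
  obtain ⟨d, hdd⟩ : ∃ d, d = g.1 1 1 := ⟨_, rfl⟩
  obtain ⟨x, hx⟩ : ∃ x, x = ent u 0 0 := ⟨_, rfl⟩
  obtain ⟨y, hy⟩ : ∃ y, y = ent u 0 1 := ⟨_, rfl⟩
  obtain ⟨w, hw⟩ : ∃ w, w = ent u 1 0 := ⟨_, rfl⟩
  obtain ⟨v, hv⟩ : ∃ v, v = ent u 1 1 := ⟨_, rfl⟩
  have q0 := congrFun (congrFun hc 0) 0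
  have q1 := congrFun (congrFun hc 0) 1
  have q2 := congrFun (congrFun hc 1) 0
  rw [Matrix.mul_apply, Matrix.mul_apply, Fin.sum_univ_two, Fin.sum_univ_two] at q0 q1 q2
  change g.1 0 0 * ent u 0 0 + g.1 0 1 * ent u 1 0 = ent u 0 0 * g.1 0 0 + ent u 0 1 * g.1 1 0 at q0
  change g.1 0 0 * ent u 0 1 + g.1 0 1 * ent u 1 1 = ent u 0 0 * g.1 0 1 + ent u 0 1 * g.1 1 1 at q1
  change g.1 1 0 * ent u 0 0 + g.1 1 1 * ent u 1 0 = ent u 1 0 * g.1 0 0 + ent u 1 1 * g.1 1 0 at q2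
  rw [← hx, ← hy, ← hw, ← ha, ← hb, ← hcc] at q0
  rw [← hx, ← hy, ← hv, ← ha, ← hb, ← hdd] at q1
  rw [← hx, ← hv, ← hw, ← ha, ← hcc, ← hdd] at q2
  rw [← hx, ← hv] at htr
  rw [← hx, ← hy, ← hw, ← hv] at hd
  rw [Matrix.det_fin_two, ← ha, ← hb, ← hcc, ← hdd]
  have hv' : v = 2 - x := by linear_combination htr
  subst hv'
  have hne : y ≠ 0 ∨ w ≠ 0 := by
    by_contra hcon
    push Not at hcon
    obtain ⟨h3, h4⟩ := hcon
    apply h1
    have h5 : (x - 1) ^ 2 = 0 := by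
      rw [h3, h4] at hd
      linear_combination -hd
    have h6 : x = 1 := by
      have := pow_eq_zero_iff (two_ne_zero) |>.1 h5
      linear_combination this
    refine ext_ent ?_ ?_ ?_ ?_
    · rw [← hx, h6]; rfl
    · rw [← hy, h3]; rfl
    · rw [← hw, h4]; rfl
    · rw [← hv, h6]
      change (2 : K) - 1 = 1
      ring
  -- `k = b / y` or `c / w`
  rcases hne with h3 | h3
  · have e1 : c = b * w / y := by
      field_simp
      linear_combination -q0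
    have e2 : a - d = 2 * (x - 1) * b / y := by
      field_simp
      linear_combination q1
    have e3 : a = d + 2 * (x - 1) * b / y := by linear_combination e2
    rw [e1, e3]
    field_simp
    linear_combination (4 * b ^ 2) * hd
  · have e1 : b = c * y / w := by
      field_simp
      linear_combination q0
    have e2 : a - d = 2 * (x - 1) * c / w := by
      field_simp
      linear_combination -q2
    have e3 : a = d + 2 * (x - 1) * c / w := by linear_combination e2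
    rw [e1, e3]
    field_simp
    linear_combination (4 * c ^ 2) * hd

/-- the trace of an involution of `PGL₂(K)` vanishes -/
theorem trace_zero (g : GL (Fin 2) K) (h1 : conjGL g ≠ 1) (hh : conjGL g * conjGL g = 1) :
    g.1 0 0 + g.1 1 1 = 0 := by
  obtain ⟨a, ha⟩ : ∃ a, a = g.1 0 0 := ⟨_, rfl⟩
  obtain ⟨b, hb⟩ : ∃ b, b = g.1 0 1 := ⟨_, rfl⟩
  obtain ⟨c, hcc⟩ : ∃ c, c = g.1 1 0 := ⟨_, rfl⟩
  obtain ⟨d, hd⟩ : ∃ d, d = g.1 1 1 := ⟨_, rfl⟩
  have hg : g.1 = !![a, b; c, d] := by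
    rw [ha, hb, hcc, hd]
    exact Matrix.eta_fin_two _
  have hcomm : ∀ x : Matrix.SpecialLinearGroup (Fin 2) K, (g * g).1 * x.1 = x.1 * (g * g).1 := fun x =>
    (conj_iff (g * g) x).1 (by rw [map_mul, hh]; rfl)
  have hgg : (g * g).1 = !![a * a + b * c, a * b + b * d; c * a + d * c, c * b + d * d] := by
    rw [Units.val_mul, hg]
    ext i j
    fin_cases i <;> fin_cases j <;> simp [Matrix.mul_apply, Fin.sum_univ_two]
  have hu : (g * g).1 * !![1, 1; 0, 1] = !![1, 1; 0, 1] * (g * g).1 := hcomm (up 1)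
  have hl : (g * g).1 * !![1, 0; 1, 1] = !![1, 0; 1, 1] * (g * g).1 := hcomm (lo 1)
  have e1 : c * (a + d) = 0 := by
    have h := congrFun (congrFun hu 0) 0
    rw [hgg] at h
    simp [Matrix.mul_apply, Fin.sum_univ_two] at h
    linear_combination h
  have e2 : b * (a + d) = 0 := by
    have h := congrFun (congrFun hl 0) 0
    rw [hgg] at h
    simp [Matrix.mul_apply, Fin.sum_univ_two] at h
    linear_combination h
  have e3 : (a - d) * (a + d) = 0 := by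
    have h := congrFun (congrFun hu 0) 1
    rw [hgg] at h
    simp [Matrix.mul_apply, Fin.sum_univ_two] at h
    linear_combination h
  rw [← ha, ← hd]
  by_contra hne
  apply h1
  have f1 : c = 0 := (mul_eq_zero.1 e1).resolve_right hne
  have f2 : b = 0 := (mul_eq_zero.1 e2).resolve_right hne
  have f3 : a = d := by
    have := (mul_eq_zero.1 e3).resolve_right hne
    linear_combination this
  ext1 x
  refine (conj_iff g x).2 ?_
  rw [hg, f1, f2, ← f3]
  ext i j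
  fin_cases i <;> fin_cases j <;> simp [Matrix.mul_apply, Fin.sum_univ_two, mul_comm]

end Cfsg.Agent.H625.Gl2

namespace Cfsg.Agent.H625.IFx

open Cfsg.Agent.Cit.HexBase Cfsg.Agent.Lib.SL2Mat Cfsg.Agent.Cit.HexBase.HexGrp Subgroup

variable {E : Type*} [Field E] {σ : E ≃+* E} {T : Type*} [Group T] (c : HexGrp σ T)

include c in
theorem sq_iff_pos [Finite E] (h2 : (2 : E) ≠ 0) {t : ↥(fx σ)} (ht : t ≠ 0) (h : IsSquare (t : E)⁻¹) : IsSquare t := by
  have ht' : (t : E) ≠ 0 := fun h => ht (Subtype.ext h)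
  obtain ⟨r, hr⟩ := h
  have hr0 : r ≠ 0 := by
    rintro rfl
    rw [mul_zero] at hr
    exact inv_ne_zero ht' hr
  have e : (r⁻¹) ^ 2 = (t : E) := by
    rw [inv_pow, pow_two, ← hr, inv_inv]
  have h1 : σ ((r⁻¹) ^ 2) = (r⁻¹) ^ 2 := by
    rw [e]
    exact t.2
  have h3 := c.fix_of_sq h2 h1
  refine ⟨⟨r⁻¹, h3⟩, Subtype.ext ?_⟩
  change (t : E) = r⁻¹ * r⁻¹
  rw [← e, pow_two]

theorem range_eq_sup : (prodH c).range = c.K1 ⊔ c.K4 := by
  apply le_antisymm
  · rintro _ ⟨⟨x, y⟩, rfl⟩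
    exact mul_mem (mem_sup_left ⟨x, rfl⟩) (mem_sup_right ⟨y, rfl⟩)
  · refine sup_le ?_ ?_
    · rintro _ ⟨x, rfl⟩
      exact ⟨(x, 1), by rw [prodH_apply, map_one, mul_one]⟩
    · rintro _ ⟨y, rfl⟩
      exact ⟨(1, y), by rw [prodH_apply, map_one, one_mul]⟩

theorem isSquare_of_comm_unip {K : Type*} [Field K] [Finite K] (h2 : (2 : K) ≠ 0) (g : GL (Fin 2) K) {u : SL2 K}
    (hu : u ^ Nat.card K = 1) (h1 : u ≠ 1) (hg : conjGL g u = u) : IsSquare g.1.det := by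
  have h := Gl2.comm_unip g hu h1 hg
  refine ⟨(g.1 0 0 + g.1 1 1) / 2, ?_⟩
  field_simp
  linear_combination h

/-- (P1, 747) an element of `C(z)` centralising a nontrivial unipotent element of `K1` lies in `K1 K4` -/
theorem cent_unip_pb [Finite E] (h2 : (2 : E) ≠ 0) {g : T} (hgz : g * c.z = c.z * g) {u : SL2 E} (h1 : u ≠ 1)
    (hu : u ^ Nat.card E = 1) (hg : g * c.pb u = c.pb u * g) : g ∈ c.K1 ⊔ c.K4 := by
  obtain ⟨a, a', t, ht, hd, hd', ha, ha', hsq⟩ := exists_act2 c h2 hgz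
  rw [← range_eq_sup]
  apply hsq.1
  apply sq_iff_pos c h2 ht
  rw [← hd]
  exact isSquare_of_comm_unip h2 a hu h1 ((fix_of_comm c h2 ha u).1 hg)

theorem cent_unip_p4 [Finite E] (h2 : (2 : E) ≠ 0) {g : T} (hgz : g * c.z = c.z * g) {u : SL2 ↥(fx σ)} (h1 : u ≠ 1)
    (hu : u ^ Nat.card ↥(fx σ) = 1) (hg : g * c.p4 u = c.p4 u * g) : g ∈ c.K1 ⊔ c.K4 := by
  obtain ⟨a, a', t, ht, hd, hd', ha, ha', hsq⟩ := exists_act2 c h2 hgz
  rw [← range_eq_sup]
  apply hsq.1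
  rw [← hd']
  exact isSquare_of_comm_unip (two_ne h2) a' hu h1 ((fix_of_comm' c ha' u).1 hg)

/-- the actions of an involution `s ≠ z` of `C(z)` are involutions -/
theorem act_inv [Finite E] (h2 : (2 : E) ≠ 0) {s : T} (hss : s * s = 1) (h1 : s ≠ 1) (hz : s ≠ c.z)
    {g : GL (Fin 2) E} {g' : GL (Fin 2) ↥(fx σ)} (hg : ∀ x, s * c.pb x * s⁻¹ = c.pb (conjGL g x))
    (hg' : ∀ y, s * c.p4 y * s⁻¹ = c.p4 (conjGL g' y)) :
    (conjGL g ≠ 1 ∧ conjGL g * conjGL g = 1) ∧ (conjGL g' ≠ 1 ∧ conjGL g' * conjGL g' = 1) := by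
  have hinv : s⁻¹ = s := inv_eq_of_mul_eq_one_left hss
  refine ⟨⟨?_, ?_⟩, ?_, ?_⟩
  · intro h
    have h3 : ∀ x, s * c.pb x = c.pb x * s := fun x => (fix_of_comm c h2 hg x).2 (by rw [h]; rfl)
    obtain ⟨y, hy⟩ := c.centralizer_K1 h2 h3
    rcases c.p4_sq h2 (w := y) (by rw [show c.p4 y = s from hy]; exact hss) with h4 | h4
    · exact h1 (hy.symm.trans h4)
    · exact hz (hy.symm.trans h4)
  · ext1 x
    apply c.pb_inj h2
    change c.pb (conjGL g (conjGL g x)) = c.pb x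
    rw [← hg, ← hg, hinv]
    calc s * (s * c.pb x * s) * s = (s * s) * c.pb x * (s * s) := by group
      _ = c.pb x := by rw [hss, one_mul, mul_one]
  · intro h
    have h3 : ∀ x, s * c.p4 x = c.p4 x * s := fun x => (fix_of_comm' c hg' x).2 (by rw [h]; rfl)
    obtain ⟨y, hy⟩ := c.centralizer_K4 h2 h3
    rcases c.pb_sq h2 (x := y) (by rw [show c.pb y = s from hy]; exact hss) with h4 | h4
    · exact h1 (hy.symm.trans h4)
    · exact hz (hy.symm.trans h4)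
  · ext1 x
    apply c.p4_inj
    change c.p4 (conjGL g' (conjGL g' x)) = c.p4 x
    rw [← hg', ← hg', hinv]
    calc s * (s * c.p4 x * s) * s = (s * s) * c.p4 x * (s * s) := by group
      _ = c.p4 x := by rw [hss, one_mul, mul_one]

theorem cent_inv_unip_pb [Finite E] (h2 : (2 : E) ≠ 0) {s : T} (hs : s * c.z = c.z * s) (hss : s * s = 1)
    (h1 : s ≠ 1) (hz : s ≠ c.z) {u : SL2 E} (hu : u ^ Nat.card E = 1) (hg : s * c.pb u = c.pb u * s) : u = 1 := by
  obtain ⟨a, a', t, ht, hd, hd', ha, ha', hsq⟩ := exists_act2 c h2 hs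
  by_contra hne
  have h := Gl2.comm_unip a hu hne ((fix_of_comm c h2 ha u).1 hg)
  have hk := (act_inv c h2 hss h1 hz ha ha').1
  have ht' : (t : E) ≠ 0 := fun h => ht (Subtype.ext h)
  rw [Gl2.trace_zero a hk.1 hk.2, hd] at h
  have h4 : (4 : E) ≠ 0 := by
    have : (4 : E) = 2 * 2 := by norm_num
    rw [this]
    exact mul_ne_zero h2 h2
  exact mul_ne_zero h4 (inv_ne_zero ht') (by rw [h]; ring)

theorem cent_inv_unip_p4 [Finite E] (h2 : (2 : E) ≠ 0) {s : T} (hs : s * c.z = c.z * s) (hss : s * s = 1)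
    (h1 : s ≠ 1) (hz : s ≠ c.z) {u : SL2 ↥(fx σ)} (hu : u ^ Nat.card ↥(fx σ) = 1)
    (hg : s * c.p4 u = c.p4 u * s) : u = 1 := by
  obtain ⟨a, a', t, ht, hd, hd', ha, ha', hsq⟩ := exists_act2 c h2 hs
  by_contra hne
  have h := Gl2.comm_unip a' hu hne ((fix_of_comm' c ha' u).1 hg)
  have hk := (act_inv c h2 hss h1 hz ha ha').2
  rw [Gl2.trace_zero a' hk.1 hk.2, hd'] at h
  have h2' : (2 : ↥(fx σ)) ≠ 0 := two_ne h2
  have h4 : (4 : ↥(fx σ)) ≠ 0 := by
    have : (4 : ↥(fx σ)) = 2 * 2 := by norm_num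
    rw [this]
    exact mul_ne_zero h2' h2'
  exact mul_ne_zero h4 ht (by rw [h]; ring)

theorem card_cent_pb [Finite E] (s : T) (h2 : (2 : E) ≠ 0) :
    Nat.card (centralizer ({s} : Set T) ⊓ c.K1 : Subgroup T) = Nat.card {x : SL2 E // s * c.pb x = c.pb x * s} := by
  symm
  refine Nat.card_congr (Equiv.ofBijective (fun x => ⟨c.pb x.1, mem_inf.2 ⟨?_, x.1, rfl⟩⟩) ⟨?_, ?_⟩)
  · rw [mem_centralizer_singleton_iff]
    exact x.2.symm
  · intro x y h
    exact Subtype.ext (c.pb_inj h2 (congrArg Subtype.val h))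
  · rintro ⟨y, hy⟩
    obtain ⟨hy1, x, rfl⟩ := mem_inf.1 hy
    exact ⟨⟨x, (mem_centralizer_singleton_iff.1 hy1).symm⟩, rfl⟩

/-- (P1, 747) -/
theorem two_types [Finite E] [Finite T] (h2 : (2 : E) ≠ 0) : ∃ s1 s2 : T,
    (s1 * s1 = 1 ∧ s1 ≠ 1 ∧ s1 ≠ c.z ∧ s1 * c.z = c.z * s1) ∧ (s2 * s2 = 1 ∧ s2 ≠ 1 ∧ s2 ≠ c.z ∧ s2 * c.z = c.z * s2) ∧
    Nat.card {x : SL2 E // s1 * c.pb x = c.pb x * s1} = Nat.card E - 1 ∧
    Nat.card {x : SL2 E // s2 * c.pb x = c.pb x * s2} = Nat.card E + 1 := by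
  obtain ⟨-, -, s1, -, a1, a2, a3, a4, -, a5, -⟩ := exists_type c h2 (e := 1) (Or.inl rfl)
  obtain ⟨-, -, s2, -, b1, b2, b3, b4, -, b5, -⟩ := exists_type c h2 (e := -1) (Or.inr rfl)
  refine ⟨s1, s2, ⟨a2, a3, a4, a1⟩, ⟨b2, b3, b4, b1⟩, ?_, ?_⟩
  · rw [← card_cent_pb c s1 h2]
    omega
  · rw [← card_cent_pb c s2 h2]
    omega

theorem card_sl2 {K : Type*} [Field K] [Finite K] :
    (Nat.card (SL2 K) : ℤ) = Nat.card K * ((Nat.card K : ℤ) ^ 2 - 1) := by
  have := Fintype.ofFinite K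
  have s1 : Nat.card (SL2 K) = Nat.card K * (Nat.card K ^ 2 - 1) := by
    rw [Nat.card_eq_fintype_card (α := K)]
    exact ClassicalGeometry.PSL2Basic.card_SL2 _
  have p1 : 2 ≤ Nat.card K := Finite.one_lt_card
  rw [s1, Nat.cast_mul, Nat.cast_sub (by nlinarith), Nat.cast_pow, Nat.cast_one]

/-- `|C(z) ∩ C(s)| ≤ 2 (|E| - e) (|F| - e)` -/
theorem cent_cent_le [Finite E] [Finite T] (h2 : (2 : E) ≠ 0) {s : T} {e : ℤ} (he : e = 1 ∨ e = -1)
    (h : (Nat.card E : ℤ) * (Nat.card E + e) * (Nat.card ↥(fx σ) * (Nat.card ↥(fx σ) + e)) ≤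
        2 * ((centralizer ({s} : Set T)).relIndex (centralizer ({c.z} : Set T)) : ℤ)) :
    (Nat.card (centralizer ({s} : Set T) ⊓ centralizer ({c.z} : Set T) : Subgroup T) : ℤ) ≤
      2 * (((Nat.card E : ℤ) - e) * (Nat.card ↥(fx σ) - e)) := by
  have p1 : (2 : ℤ) ≤ Nat.card E := by exact_mod_cast Finite.one_lt_card
  have p4 : (2 : ℤ) ≤ Nat.card ↥(fx σ) := by exact_mod_cast Finite.one_lt_card
  have hcz : (Nat.card (centralizer ({c.z} : Set T)) : ℤ) =
      (Nat.card E * ((Nat.card E : ℤ) ^ 2 - 1)) * (Nat.card ↥(fx σ) * ((Nat.card ↥(fx σ) : ℤ) ^ 2 - 1)) := by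
    rw [card_CZ c h2, Nat.cast_mul, card_sl2, card_sl2]
  have hmul : (Nat.card (centralizer ({s} : Set T) ⊓ centralizer ({c.z} : Set T) : Subgroup T) : ℤ) *
      (centralizer ({s} : Set T)).relIndex (centralizer ({c.z} : Set T)) = Nat.card (centralizer ({c.z} : Set T)) := by
    have h1 := ((centralizer ({s} : Set T)).subgroupOf (centralizer ({c.z} : Set T))).card_mul_index
    have h3 : Nat.card ((centralizer ({s} : Set T)).subgroupOf (centralizer ({c.z} : Set T))) =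
        Nat.card (centralizer ({s} : Set T) ⊓ centralizer ({c.z} : Set T) : Subgroup T) := by
      rw [← inf_subgroupOf_right]
      exact Nat.card_congr (subgroupOfEquivOfLe inf_le_right).toEquiv
    rw [h3] at h1
    exact_mod_cast h1
  rw [hcz] at hmul
  have hee : e * e = 1 := by rcases he with rfl | rfl <;> norm_num
  have a1 : (0 : ℤ) < Nat.card E - e := by rcases he with rfl | rfl <;> linarith
  have a4 : (0 : ℤ) < Nat.card ↥(fx σ) - e := by rcases he with rfl | rfl <;> linarith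
  have b1 : (0 : ℤ) < Nat.card E + e := by rcases he with rfl | rfl <;> linarith
  have b4 : (0 : ℤ) < Nat.card ↥(fx σ) + e := by rcases he with rfl | rfl <;> linarith
  obtain ⟨m, hm⟩ : ∃ m : ℤ, m = (Nat.card E : ℤ) * (Nat.card E + e) * (Nat.card ↥(fx σ) * (Nat.card ↥(fx σ) + e)) :=
    ⟨_, rfl⟩
  have hm0 : 0 < m := by
    rw [hm]
    exact mul_pos (mul_pos (by linarith) b1) (mul_pos (by linarith) b4)
  have e1 : (Nat.card E * ((Nat.card E : ℤ) ^ 2 - 1)) * (Nat.card ↥(fx σ) * ((Nat.card ↥(fx σ) : ℤ) ^ 2 - 1)) =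
      m * (((Nat.card E : ℤ) - e) * (Nat.card ↥(fx σ) - e)) := by
    have : ∀ a b : ℤ, a * (a + e) * (b * (b + e)) * ((a - e) * (b - e)) =
        a * (a ^ 2 - e * e) * (b * (b ^ 2 - e * e)) := fun a b => by ring
    rw [hm, this, hee]
  rw [e1] at hmul
  rw [← hm] at h
  have key : (Nat.card (centralizer ({s} : Set T) ⊓ centralizer ({c.z} : Set T) : Subgroup T) : ℤ) * m ≤
      2 * (((Nat.card E : ℤ) - e) * (Nat.card ↥(fx σ) - e)) * m := by
    have h0 : (0 : ℤ) ≤ Nat.card (centralizer ({s} : Set T) ⊓ centralizer ({c.z} : Set T) : Subgroup T) := by positivity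
    nlinarith [mul_le_mul_of_nonneg_left h h0]
  exact le_of_mul_le_mul_right key hm0

end Cfsg.Agent.H625.IFx
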